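import Cfsg.Agent.BG.S2Abelem
import Cfsg.Agent.BG.S3Char

/-! B&G section 2 (helper1): 2.6, 2.7 are in `BG.S2GL2`, `BG.S2Abelem`; 2.5 is in `BG.S3Char`. -/
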